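import Mathlib.Data.Matrix.Basis
import Mathlib.LinearAlgebra.Matrix.GeneralLinearGroup.Defs
import Mathlib.Algebra.CharP.Two
import Mathlib.Data.Finset.Piecewise

/-!
Tensor powers of matrices and monomials of site operators.
-/

set_option autoImplicit false
set_option linter.all false

namespace CfsgLib.Geo.SpinTensor

open Matrix

variable {F : Type*} [Field F] {J K L : Type*} {t m : ℕ}

/-- The tensor product of `t` matrices. -/
def pure (gs : Fin t → Matrix J K F) : Matrix (Fin t → J) (Fin t → K) F :=
  fun c c' => ∏ i, gs i (c i) (c' i)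

theorem pure_apply (gs : Fin t → Matrix J K F) (c : Fin t → J) (c' : Fin t → K) :
    pure gs c c' = ∏ i, gs i (c i) (c' i) := rfl

theorem pure_mul [Fintype K] [DecidableEq K] (gs : Fin t → Matrix J K F) (hs : Fin t → Matrix K L F) :
    pure gs * pure hs = pure fun i => gs i * hs i := by
  ext c c'
  simp only [mul_apply, pure_apply]
  rw [Fintype.prod_sum]
  exact Finset.sum_congr rfl fun x _ => Finset.prod_mul_distrib.symm

theorem pure_one [DecidableEq J] : pure (fun _ : Fin t => (1 : Matrix J J F)) = 1 := by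
  ext c c'
  rw [pure_apply]
  by_cases h : c = c'
  · subst h; simp
  · obtain ⟨i, hi⟩ := Function.ne_iff.mp h
    rw [Finset.prod_eq_zero (Finset.mem_univ i) (by rw [one_apply_ne hi]), one_apply_ne h]

theorem pure_transpose (gs : Fin t → Matrix J K F) : (pure gs)ᵀ = pure fun i => (gs i)ᵀ := rfl

/-- Embedding at one factor. -/
def emb [DecidableEq J] (i : Fin t) : Matrix J J F →ₗ[F] Matrix (Fin t → J) (Fin t → J) F where
  toFun X := pure (Function.update (fun _ => 1) i X)
  map_add' X Y := by
    ext c c'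
    simp only [pure_apply, Matrix.add_apply, Function.update_apply]
    rw [← Finset.mul_prod_erase _ _ (Finset.mem_univ i), ← Finset.mul_prod_erase _ _ (Finset.mem_univ i),
      ← Finset.mul_prod_erase _ _ (Finset.mem_univ i), if_pos rfl, if_pos rfl, if_pos rfl, Matrix.add_apply,
      add_mul]
    congr 1 <;> congr 1 <;> exact Finset.prod_congr rfl fun j hj => by
      rw [if_neg (Finset.mem_erase.mp hj).1, if_neg (Finset.mem_erase.mp hj).1]
  map_smul' r X := by
    ext c c'
    simp only [pure_apply, RingHom.id_apply, Matrix.smul_apply, Function.update_apply, smul_eq_mul]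
    rw [← Finset.mul_prod_erase _ _ (Finset.mem_univ i), ← Finset.mul_prod_erase _ _ (Finset.mem_univ i),
      if_pos rfl, if_pos rfl, Matrix.smul_apply, smul_eq_mul, mul_assoc]
    congr 2
    exact Finset.prod_congr rfl fun j hj => by
      rw [if_neg (Finset.mem_erase.mp hj).1, if_neg (Finset.mem_erase.mp hj).1]

theorem emb_one [DecidableEq J] (i : Fin t) : emb i (1 : Matrix J J F) = 1 := by
  show pure _ = _
  rw [← pure_one]
  congr 1
  exact Function.update_eq_self i _

theorem emb_apply [DecidableEq J] (i : Fin t) (X : Matrix J J F) (c c' : Fin t → J) :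
    emb i X c c' = if (∀ j, j ≠ i → c j = c' j) then X (c i) (c' i) else 0 := by
  show pure _ c c' = _
  rw [pure_apply, ← Finset.mul_prod_erase _ _ (Finset.mem_univ i), Function.update_self]
  split_ifs with h
  · rw [Finset.prod_eq_one (fun j hj => by
      rw [Function.update_of_ne (Finset.mem_erase.mp hj).1, h j (Finset.mem_erase.mp hj).1, one_apply_eq]),
      mul_one]
  · push Not at h
    obtain ⟨j, hj, hne⟩ := h
    rw [Finset.prod_eq_zero (Finset.mem_erase.mpr ⟨hj, Finset.mem_univ j⟩) (by
      rw [Function.update_of_ne hj, one_apply_ne hne]), mul_zero]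

theorem pure_mul_emb [Fintype J] [DecidableEq J] (gs : Fin t → Matrix J J F) (hs : Fin t → Matrix J J F)
    (h : ∀ i, gs i * hs i = 1) (i : Fin t) (X : Matrix J J F) :
    pure gs * emb i X * pure hs = emb i (gs i * X * hs i) := by
  show pure gs * pure _ * pure hs = pure _
  rw [pure_mul, pure_mul]
  congr 1
  funext j
  by_cases hj : j = i
  · subst hj; rw [Function.update_self, Function.update_self]
  · rw [Function.update_of_ne hj, Function.update_of_ne hj, mul_one, h]

/-- Permutation of the factors. -/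
def perm [DecidableEq J] (π : Equiv.Perm (Fin t)) : Matrix (Fin t → J) (Fin t → J) F :=
  fun c c' => if c' = c ∘ π then 1 else 0

theorem perm_one [DecidableEq J] : perm (F := F) (J := J) (1 : Equiv.Perm (Fin t)) = 1 := by
  ext c c'
  simp [perm, one_apply, eq_comm]

theorem perm_mul_apply [Fintype J] [DecidableEq J] (π : Equiv.Perm (Fin t)) (M : Matrix (Fin t → J) L F)
    (c : Fin t → J) (l : L) : (perm π * M : Matrix (Fin t → J) L F) c l = M (c ∘ π) l := by
  simp [perm, mul_apply]

theorem mul_perm_apply [Fintype J] [DecidableEq J] (π : Equiv.Perm (Fin t)) (M : Matrix L (Fin t → J) F)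
    (c : Fin t → J) (l : L) : (M * perm π : Matrix L (Fin t → J) F) l (c ∘ π) = M l c := by
  rw [mul_apply, Finset.sum_eq_single c]
  · simp [perm]
  · intro x _ hx
    rw [perm, if_neg, mul_zero]
    exact fun e => hx (funext fun j => by simpa using (congrFun e (π⁻¹ j)).symm)
  · exact fun h => absurd (Finset.mem_univ c) h

theorem perm_mul [Fintype J] [DecidableEq J] (π ρ : Equiv.Perm (Fin t)) :
    perm (F := F) (J := J) π * perm ρ = perm (π * ρ) := by
  ext c c'
  rw [perm_mul_apply]
  rfl

theorem perm_mul_pure [Fintype J] [DecidableEq J] [Fintype K] [DecidableEq K] (π : Equiv.Perm (Fin t))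
    (gs : Fin t → Matrix J K F) : perm π * pure gs = pure (fun i => gs (π⁻¹ i)) * perm π := by
  ext c c'
  obtain ⟨c', rfl⟩ : ∃ d, c' = d ∘ π := ⟨c' ∘ ⇑π⁻¹, funext fun j => by simp⟩
  rw [perm_mul_apply, mul_perm_apply, pure_apply, pure_apply]
  exact Fintype.prod_equiv π _ _ fun i => by simp

theorem perm_mul_emb [Fintype J] [DecidableEq J] (π : Equiv.Perm (Fin t)) (i : Fin t) (X : Matrix J J F) :
    perm π * emb i X * perm π⁻¹ = emb (π i) X := by
  show perm π * pure _ * perm π⁻¹ = pure _
  rw [perm_mul_pure, mul_assoc, perm_mul, mul_inv_cancel, perm_one, mul_one]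
  congr 1
  funext j
  by_cases hj : j = π i
  · subst hj; simp
  · rw [Function.update_of_ne hj, Function.update_of_ne]
    exact fun e => hj (by rw [← e]; simp)

/-- The local index set: `m` bits. -/
abbrev Bits (m : ℕ) := Fin m → Bool

/-- The index set. -/
abbrev Idx (t m : ℕ) := Fin t → Bits m

/-- Flip the sites in `D`. -/
def flipAt (D : Finset (Fin t × Fin m)) (c : Idx t m) : Idx t m :=
  fun i s => if (i, s) ∈ D then !c i s else c i s

theorem flipAt_eq_iff (D : Finset (Fin t × Fin m)) (c : Idx t m) (p : Fin t × Fin m) :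
    flipAt D c p.1 p.2 = c p.1 p.2 ↔ p ∉ D := by
  unfold flipAt
  by_cases h : p ∈ D
  · simp [h]
  · simp [h]

theorem flipAt_flipAt (D : Finset (Fin t × Fin m)) (c : Idx t m) : flipAt D (flipAt D c) = c := by
  funext i s
  unfold flipAt
  by_cases h : (i, s) ∈ D <;> simp [h]

/-- The antipode. -/
def anti (c : Idx t m) : Idx t m := fun i s => !c i s

theorem anti_anti (c : Idx t m) : anti (anti c) = c := by funext i s; simp [anti]

/-- The form. -/
def gram (t m : ℕ) (F : Type*) [Field F] : Matrix (Idx t m) (Idx t m) F :=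
  fun c c' => if c' = anti c then 1 else 0

/-- The local form. -/
def gramLoc (m : ℕ) (F : Type*) [Field F] : Matrix (Bits m) (Bits m) F :=
  fun a b => if b = (fun s => !a s) then 1 else 0

theorem pure_gramLoc : pure (fun _ : Fin t => gramLoc m F) = gram t m F := by
  ext c c'
  rw [pure_apply]
  unfold gramLoc gram
  by_cases h : c' = anti c
  · rw [if_pos h, Finset.prod_eq_one]
    exact fun i _ => if_pos (congrFun h i)
  · obtain ⟨i, hi⟩ := Function.ne_iff.mp h
    rw [if_neg h, Finset.prod_eq_zero (Finset.mem_univ i) (if_neg hi)]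

/-- The monomial of site operators at `D` selecting the values `d`. -/
def mono (D : Finset (Fin t × Fin m)) (d : Fin t × Fin m → Bool) : Matrix (Idx t m) (Idx t m) F :=
  fun c c' => if (∀ p ∈ D, c p.1 p.2 = d p) ∧ c' = flipAt D c then 1 else 0

theorem mono_congr {D : Finset (Fin t × Fin m)} {d d' : Fin t × Fin m → Bool} (h : ∀ p ∈ D, d p = d' p) :
    mono (F := F) D d = mono D d' := by
  ext c c'
  unfold mono
  exact if_congr (and_congr_left' (forall₂_congr fun p hp => by rw [h p hp])) rfl rfl

theorem mono_mul_apply {L : Type*} (D : Finset (Fin t × Fin m)) (d : Fin t × Fin m → Bool)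
    (M : Matrix (Idx t m) L F) (c : Idx t m) (l : L) :
    (mono D d * M : Matrix (Idx t m) L F) c l = if (∀ p ∈ D, c p.1 p.2 = d p) then M (flipAt D c) l else 0 := by
  rw [mul_apply]
  by_cases h : ∀ p ∈ D, c p.1 p.2 = d p
  · rw [if_pos h, Finset.sum_eq_single (flipAt D c)]
    · rw [mono, if_pos ⟨h, rfl⟩, one_mul]
    · intro x _ hx
      rw [mono, if_neg (fun e => hx e.2), zero_mul]
    · exact fun h => absurd (Finset.mem_univ _) h
  · rw [if_neg h]
    exact Finset.sum_eq_zero fun x _ => by rw [mono, if_neg (fun e => h e.1), zero_mul]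

theorem mono_mul_disjoint {D D' : Finset (Fin t × Fin m)} (hD : Disjoint D D') (d d' : Fin t × Fin m → Bool) :
    (mono D d * mono D' d' : Matrix (Idx t m) (Idx t m) F) = mono (D ∪ D') (D.piecewise d d') := by
  ext c c'
  rw [mono_mul_apply]
  have hflip : flipAt D' (flipAt D c) = flipAt (D ∪ D') c := by
    funext i s
    unfold flipAt
    by_cases h1 : (i, s) ∈ D
    · have h2 : (i, s) ∉ D' := Finset.disjoint_left.mp hD h1
      simp [h1, h2]
    · by_cases h2 : (i, s) ∈ D' <;> simp [h1, h2]
  have hcond : ((∀ p ∈ D, c p.1 p.2 = d p) ∧ ∀ p ∈ D', flipAt D c p.1 p.2 = d' p) ↔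
      ∀ p ∈ D ∪ D', c p.1 p.2 = D.piecewise d d' p := by
    constructor
    · rintro ⟨h1, h2⟩ p hp
      by_cases hpD : p ∈ D
      · rw [Finset.piecewise_eq_of_mem _ _ _ hpD]; exact h1 p hpD
      · rw [Finset.piecewise_eq_of_notMem _ _ _ hpD, ← (flipAt_eq_iff D c p).mpr hpD]
        exact h2 p ((Finset.mem_union.mp hp).resolve_left hpD)
    · intro h
      refine ⟨fun p hp => ?_, fun p hp => ?_⟩
      · have := h p (Finset.mem_union_left _ hp)
        rwa [Finset.piecewise_eq_of_mem _ _ _ hp] at this
      · have hpD : p ∉ D := Finset.disjoint_right.mp hD hp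
        have := h p (Finset.mem_union_right _ hp)
        rw [Finset.piecewise_eq_of_notMem _ _ _ hpD] at this
        rw [(flipAt_eq_iff D c p).mpr hpD]; exact this
  unfold mono
  rw [hflip, ← ite_and]
  exact if_congr (by rw [← and_assoc, hcond]) rfl rfl

theorem mono_mul_self {D : Finset (Fin t × Fin m)} (hD : D.Nonempty) (d : Fin t × Fin m → Bool) :
    (mono D d * mono D d : Matrix (Idx t m) (Idx t m) F) = 0 := by
  ext c c'
  rw [mono_mul_apply, Matrix.zero_apply]
  split_ifs with h
  · obtain ⟨p, hp⟩ := hD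
    refine if_neg fun e => ?_
    have h1 := e.1 p hp
    rw [← h p hp] at h1
    exact (flipAt_eq_iff D c p).mp h1 hp
  · rfl

theorem mono_comm {D D' : Finset (Fin t × Fin m)} (hD : Disjoint D D') (d d' : Fin t × Fin m → Bool) :
    (mono D d * mono D' d' : Matrix (Idx t m) (Idx t m) F) = mono D' d' * mono D d := by
  rw [mono_mul_disjoint hD, mono_mul_disjoint hD.symm, Finset.union_comm]
  refine mono_congr fun p hp => ?_
  rcases Finset.mem_union.mp hp with h | h
  · rw [Finset.piecewise_eq_of_notMem _ _ _ (Finset.disjoint_left.mp hD.symm h),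
      Finset.piecewise_eq_of_mem _ _ _ h]
  · rw [Finset.piecewise_eq_of_mem _ _ _ h,
      Finset.piecewise_eq_of_notMem _ _ _ (Finset.disjoint_left.mp hD h)]

theorem mono_anticomm (p : Fin t × Fin m) (d d' : Fin t × Fin m → Bool) (h : d' p = !d p) :
    (mono {p} d * mono {p} d' + mono {p} d' * mono {p} d : Matrix (Idx t m) (Idx t m) F) = 1 := by
  ext c c'
  rw [Matrix.add_apply, mono_mul_apply, mono_mul_apply]
  simp only [Finset.mem_singleton, forall_eq, mono, flipAt_flipAt]
  have hflip : flipAt {p} c p.1 p.2 = !c p.1 p.2 := by simp [flipAt]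
  simp only [hflip, h]
  rcases hc : c p.1 p.2 <;> rcases hd : d p <;> simp [one_apply, eq_comm]

theorem gram_mul_mono (D : Finset (Fin t × Fin m)) (d : Fin t × Fin m → Bool) :
    gram t m F * mono D d = (mono D d)ᵀ * gram t m F := by
  ext c c'
  rw [mul_apply, Finset.sum_eq_single (anti c) (fun x _ hx => by rw [gram, if_neg hx, zero_mul])
    (fun h => absurd (Finset.mem_univ _) h), mul_apply, Finset.sum_eq_single (anti c') (fun x _ hx => by
      rw [gram, if_neg (fun e => hx (by rw [e, anti_anti])), mul_zero])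
    (fun h => absurd (Finset.mem_univ _) h)]
  rw [gram, if_pos rfl, one_mul, gram, if_pos (anti_anti c').symm, mul_one, transpose_apply]
  unfold mono
  have key : ∀ x y : Idx t m, (∀ p ∈ D, anti x p.1 p.2 = d p) ∧ y = flipAt D (anti x) →
      (∀ p ∈ D, anti y p.1 p.2 = d p) ∧ x = flipAt D (anti y) := by
    rintro x y ⟨h1, rfl⟩
    refine ⟨fun p hp => ?_, ?_⟩
    · rw [← h1 p hp]; simp [anti, flipAt, hp]
    · funext i s
      by_cases h : (i, s) ∈ D <;> simp [anti, flipAt, h]
  exact if_congr ⟨key c c', key c' c⟩ rfl rfl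

/-- A site operator on one factor. -/
def site (s : Fin m) (v : Bool) : Matrix (Bits m) (Bits m) F :=
  fun a b => if a s = v ∧ b = Function.update a s (!a s) then 1 else 0

theorem mono_single_eq_emb (p : Fin t × Fin m) (d : Fin t × Fin m → Bool) :
    mono (F := F) {p} d = emb p.1 (site p.2 (d p)) := by
  ext c c'
  rw [emb_apply, site]
  simp only [mono, Finset.mem_singleton, forall_eq]
  have hfl : ∀ i, flipAt {p} c i = if i = p.1 then Function.update (c i) p.2 (!c i p.2) else c i := fun i => by
    funext s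
    obtain ⟨pi, ps⟩ := p
    by_cases hi : i = pi
    · subst hi
      by_cases hs : s = ps
      · subst hs; simp [flipAt]
      · simp [flipAt, hs]
    · simp [flipAt, hi]
  rw [← ite_and]
  refine if_congr ⟨fun ⟨h1, h2⟩ => ?_, fun ⟨h0, h1, h2⟩ => ?_⟩ rfl rfl
  · subst h2
    refine ⟨fun j hj => by rw [hfl, if_neg hj], h1, by rw [hfl, if_pos rfl]⟩
  · refine ⟨h1, funext fun i => ?_⟩
    rw [hfl]
    split_ifs with hi
    · subst hi; exact h2
    · exact (h0 i hi).symm

end CfsgLib.Geo.SpinTensor
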