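import Cfsg.Agent.Lib.Geo.SpinTensor.Basic
import Mathlib.Tactic.LinearCombination
import Mathlib.Tactic.FinCases
import Mathlib.LinearAlgebra.Matrix.Symmetric

/-!
The span of the site operators on one factor is preserved by the similitudes, for one or two sites.
-/

set_option autoImplicit false
set_option linter.all false

namespace CfsgLib.Geo.SpinTensor

open Matrix

variable {F : Type*} [Field F] {m : ℕ}

/-- The span of `1` and the site operators. -/
def locSpan (m : ℕ) (F : Type*) [Field F] : Submodule F (Matrix (Bits m) (Bits m) F) :=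
  Submodule.span F (insert 1 (Set.range fun p : Fin m × Bool => site p.1 p.2))

theorem one_mem_locSpan : (1 : Matrix (Bits m) (Bits m) F) ∈ locSpan m F :=
  Submodule.subset_span (Set.mem_insert _ _)

theorem site_mem_locSpan (s : Fin m) (v : Bool) : site s v ∈ locSpan m F :=
  Submodule.subset_span (Set.mem_insert_of_mem _ ⟨(s, v), rfl⟩)

theorem gramLoc_mul_apply (X : Matrix (Bits m) (Bits m) F) (a b : Bits m) :
    (gramLoc m F * X : Matrix _ _ F) a b = X (fun s => !a s) b := by
  rw [mul_apply, Finset.sum_eq_single (fun s => !a s) (fun x _ hx => by rw [gramLoc, if_neg hx, zero_mul])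
    (fun h => absurd (Finset.mem_univ _) h), gramLoc, if_pos rfl, one_mul]

theorem bits_one (a : Bits 1) : a = ![false] ∨ a = ![true] := by revert a; decide

theorem bits_two (a : Bits 2) :
    a = ![false, false] ∨ a = ![true, false] ∨ a = ![false, true] ∨ a = ![true, true] := by
  revert a; decide

/-- The invariant characterisation. -/
def LocCond (m : ℕ) (X : Matrix (Bits m) (Bits m) F) : Prop :=
  (m = 1 ∧ (gramLoc m F * X).IsSymm) ∨
    (m = 2 ∧ (∀ v, v ⬝ᵥ ((gramLoc m F * X) *ᵥ v) = 0) ∧ ∃ r : F, X * X = r • 1)

theorem locCond_conj {g h X : Matrix (Bits m) (Bits m) F} {μ : F} (hgh : g * h = 1) (hhg : h * g = 1)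
    (hg : gᵀ * gramLoc m F * g = μ • gramLoc m F) (hX : LocCond m X) : LocCond m (g * X * h) := by
  have h1 : gramLoc m F * g = μ • (hᵀ * gramLoc m F) := by
    calc gramLoc m F * g = hᵀ * (gᵀ * gramLoc m F * g) := by
          rw [← mul_assoc, ← mul_assoc, ← transpose_mul, hgh, transpose_one, one_mul]
      _ = μ • (hᵀ * gramLoc m F) := by rw [hg, mul_smul_comm]
  have h2 : gramLoc m F * (g * X * h) = μ • (hᵀ * (gramLoc m F * X) * h) := by
    rw [← mul_assoc, ← mul_assoc, h1, smul_mul_assoc, smul_mul_assoc, mul_assoc hᵀ]
  rcases hX with ⟨hm, hs⟩ | ⟨hm, ha, r, hr⟩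
  · refine Or.inl ⟨hm, ?_⟩
    rw [h2, IsSymm, transpose_smul, transpose_mul, transpose_mul, transpose_transpose, hs.eq]
    simp only [Matrix.mul_assoc]
  · refine Or.inr ⟨hm, fun v => ?_, r, ?_⟩
    · rw [h2, smul_mulVec, dotProduct_smul, ← mulVec_mulVec, ← mulVec_mulVec, dotProduct_mulVec,
        vecMul_transpose, ha, smul_zero]
    · calc g * X * h * (g * X * h) = g * X * (h * g) * X * h := by simp only [mul_assoc]
        _ = g * (X * X) * h := by rw [hhg, mul_one, mul_assoc g X X]
        _ = r • 1 := by rw [hr, mul_smul_comm, mul_one, smul_mul_assoc, hgh]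

theorem locCond_site [CharP F 2] (hm : m = 1 ∨ m = 2) (s : Fin m) (v : Bool) :
    LocCond m (site (F := F) s v) := by
  rcases hm with rfl | rfl
  · refine Or.inl ⟨rfl, IsSymm.ext fun a b => ?_⟩
    rw [gramLoc_mul_apply, gramLoc_mul_apply]
    fin_cases s
    rcases bits_one a with rfl | rfl <;> rcases bits_one b with rfl | rfl <;> cases v <;>
      simp [site, funext_iff, Fin.forall_fin_one]
  · refine Or.inr ⟨rfl, fun w => ?_, 0, ?_⟩
    · have hu : (Finset.univ : Finset (Bits 2)) = {![false, false], ![true, false], ![false, true], ![true, true]} := by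
        decide
      simp only [dotProduct, mulVec, gramLoc_mul_apply, hu]
      fin_cases s <;> cases v <;>
        simp [site, funext_iff, Fin.forall_fin_two, Function.update_apply, mul_comm, CharTwo.add_self_eq_zero]
    · ext a b
      rw [zero_smul, Matrix.zero_apply, mul_apply]
      refine Finset.sum_eq_zero fun x _ => ?_
      by_cases h1 : a s = v ∧ x = Function.update a s (!a s)
      · have h2 : x s ≠ v := by rw [h1.2, Function.update_self, h1.1]; simp
        simp [site, h2]
      · simp [site, h1]

theorem mem_locSpan_of_locCond [CharP F 2] {X : Matrix (Bits m) (Bits m) F} (hX : LocCond m X) :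
    X ∈ locSpan m F := by
  rcases hX with ⟨rfl, hs⟩ | ⟨rfl, ha, r, hr⟩
  · have h1 : X ![true] ![true] = X ![false] ![false] := by
      have := hs.apply ![false] ![true]
      rw [gramLoc_mul_apply, gramLoc_mul_apply] at this
      convert this.symm using 2 <;> (funext s; fin_cases s; rfl)
    have hX : X = X ![false] ![false] • 1 + X ![false] ![true] • site 0 false +
        X ![true] ![false] • site 0 true := by
      ext a b
      rcases bits_one a with rfl | rfl <;> rcases bits_one b with rfl | rfl <;>
        simp [site, one_apply, funext_iff, Fin.forall_fin_one, h1]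
    rw [hX]
    exact add_mem (add_mem (Submodule.smul_mem _ _ one_mem_locSpan) (Submodule.smul_mem _ _ (site_mem_locSpan _ _)))
      (Submodule.smul_mem _ _ (site_mem_locSpan _ _))
  · have hd : ∀ a, X (fun s => !a s) a = 0 := fun a => by
      have := ha (Pi.single a 1)
      rwa [single_dotProduct, one_mul, mulVec_single_one, col_apply, gramLoc_mul_apply] at this
    have hsy : ∀ a b, X (fun s => !a s) b = X (fun s => !b s) a := fun a b => by
      have := ha (Pi.single a 1 + Pi.single b 1)
      rw [mulVec_add, dotProduct_add, add_dotProduct, add_dotProduct] at this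
      simp only [single_dotProduct, one_mul, mulVec_single_one, col_apply, gramLoc_mul_apply, hd, zero_add,
        add_zero] at this
      rwa [CharTwo.add_eq_zero, eq_comm] at this
    have hnot : ∀ x y : Bool, (fun s => !(![x, y] : Bits 2) s) = ![!x, !y] := fun x y => by
      funext s; fin_cases s <;> rfl
    set o : Bits 2 := ![false, false] with ho
    set p : Bits 2 := ![true, false] with hp
    set q : Bits 2 := ![false, true] with hq
    set w : Bits 2 := ![true, true] with hw
    have e1 : X w o = 0 := by simpa [ho, hw, hnot] using hd o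
    have e2 : X o w = 0 := by simpa [ho, hw, hnot] using hd w
    have e3 : X q p = 0 := by simpa [hp, hq, hnot] using hd p
    have e4 : X p q = 0 := by simpa [hp, hq, hnot] using hd q
    have f1 : X w w = X o o := by simpa [ho, hw, hnot] using hsy o w
    have f2 : X p p = X q q := by simpa [hp, hq, hnot] using hsy q p
    have f3 : X w p = X q o := by simpa [ho, hp, hq, hw, hnot] using hsy o p
    have f4 : X w q = X p o := by simpa [ho, hp, hq, hw, hnot] using hsy o q
    have f5 : X q w = X o p := by simpa [ho, hp, hq, hw, hnot] using hsy p w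
    have f6 : X p w = X o q := by simpa [ho, hp, hq, hw, hnot] using hsy q w
    have hu : (Finset.univ : Finset (Bits 2)) = {o, p, q, w} := by rw [ho, hp, hq, hw]; decide
    have key : ∀ a, X a o * X o a + (X a p * X p a + (X a q * X q a + X a w * X w a)) = r := fun a => by
      have := congrFun (congrFun hr a) a
      rw [mul_apply, Matrix.smul_apply, one_apply_eq, smul_eq_mul, mul_one, hu,
        Finset.sum_insert (by rw [ho, hp, hq, hw]; decide), Finset.sum_insert (by rw [hp, hq, hw]; decide),
        Finset.sum_insert (by rw [hq, hw]; decide), Finset.sum_singleton] at this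
      exact this
    have h1 : X p p = X o o := by
      refine (CharTwo.add_eq_zero.mp (pow_eq_zero_iff two_ne_zero |>.mp ?_))
      have ko := key o
      have kp := key p
      rw [e2, e1] at ko
      rw [e4, e3, f6, f3] at kp
      rw [CharTwo.add_sq]
      linear_combination kp - ko + (X o o) ^ 2 * (CharTwo.two_eq_zero (R := F))
    have hX : X = X o o • 1 + X o p • site 0 false + X o q • site 1 false + X p o • site 0 true +
        X q o • site 1 true := by
      have e5 : X q q = X o o := f2 ▸ h1
      ext a b
      rcases bits_two a with rfl | rfl | rfl | rfl <;> rcases bits_two b with rfl | rfl | rfl | rfl <;>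
        simp [site, one_apply, funext_iff, Fin.forall_fin_two, Function.update_apply, ← ho, ← hp, ← hq, ← hw,
          e1, e2, e3, e4, e5, f1, h1, f3, f4, f5, f6] <;> simp [ho, hp, hq, hw]
    rw [hX]
    exact add_mem (add_mem (add_mem (add_mem (Submodule.smul_mem _ _ one_mem_locSpan)
      (Submodule.smul_mem _ _ (site_mem_locSpan _ _))) (Submodule.smul_mem _ _ (site_mem_locSpan _ _)))
      (Submodule.smul_mem _ _ (site_mem_locSpan _ _))) (Submodule.smul_mem _ _ (site_mem_locSpan _ _))

theorem locSpan_conj [CharP F 2] (hm : m = 1 ∨ m = 2) {g h : Matrix (Bits m) (Bits m) F} {μ : F}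
    (hgh : g * h = 1) (hhg : h * g = 1) (hg : gᵀ * gramLoc m F * g = μ • gramLoc m F)
    {X : Matrix (Bits m) (Bits m) F} (hX : X ∈ locSpan m F) : g * X * h ∈ locSpan m F := by
  induction hX using Submodule.span_induction with
  | mem x hx =>
    rcases hx with rfl | ⟨p, rfl⟩
    · rw [mul_one, hgh]; exact one_mem_locSpan
    · exact mem_locSpan_of_locCond (locCond_conj hgh hhg hg (locCond_site hm p.1 p.2))
  | zero => rw [mul_zero, zero_mul]; exact zero_mem _
  | add x y _ _ hx hy => rw [mul_add, add_mul]; exact add_mem hx hy
  | smul c x _ hx => rw [mul_smul_comm, smul_mul_assoc]; exact Submodule.smul_mem _ _ hx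

end CfsgLib.Geo.SpinTensor
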