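import Cfsg.Agent.Lib.Geo.SpinTensor.Local
import Cfsg.Prelude.Def_GeometricClasses
import Mathlib.Tactic.NoncommRing
import Mathlib.Algebra.CharP.Algebra

/-!
A subgroup between the tensor wreath stabiliser and `Ω` in characteristic two.
-/

set_option autoImplicit false
set_option linter.all false

namespace CfsgLib.Geo.SpinTensor

open Matrix

variable {F : Type*} [Field F] [CharP F 2] {t m : ℕ}

theorem matrix_add_self {A : Type*} (M : Matrix A A F) : M + M = 0 := by
  ext a b; exact CharTwo.add_self_eq_zero _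

/-- The commutator of two involutions of this shape. -/
theorem commutator_eq {R : Type*} [Ring R] (hR : ∀ x : R, x + x = 0) (A R₁ R₂ U : R) (hA : A * A = 0) (h1 : R₁ * R₁ = 0)
    (h2 : R₂ * R₂ = 0) (hU : U * U = 0) (h12 : R₁ * R₂ + R₂ * R₁ = 1) (hAR : A * R₁ = R₁ * A) (hAR' : A * R₂ = R₂ * A)
    (hAU : A * U = U * A) (hUR : U * R₁ = R₁ * U) (hUR' : U * R₂ = R₂ * U) :
    (1 + A * R₁) * (1 + R₂ * U) * (1 + A * R₁) * (1 + R₂ * U) = 1 + A * U := by
  obtain ⟨X, hX⟩ : ∃ X, X = A * R₁ := ⟨_, rfl⟩
  obtain ⟨Y, hY⟩ : ∃ Y, Y = R₂ * U := ⟨_, rfl⟩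
  rw [← hX, ← hY]
  have hXX : X * X = 0 := by
    rw [hX, mul_assoc, ← mul_assoc R₁, ← hAR, mul_assoc A R₁ R₁, h1, mul_zero, mul_zero]
  have hYY : Y * Y = 0 := by
    rw [hY, mul_assoc, ← mul_assoc U, hUR', mul_assoc R₂ U U, hU, mul_zero, mul_zero]
  have hAY : A * Y = Y * A := by rw [hY, ← mul_assoc, hAR', mul_assoc, hAU, mul_assoc]
  have hUX : U * X = X * U := by rw [hX, ← mul_assoc, ← hAU, mul_assoc, hUR, mul_assoc]
  have hXYX : X * Y * X = 0 := by
    rw [show X * Y * X = A * (R₁ * Y * A) * R₁ by rw [hX]; simp only [mul_assoc],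
      show R₁ * Y * A = A * (R₁ * Y) by rw [mul_assoc, ← hAY, ← mul_assoc, ← hAR, mul_assoc],
      ← mul_assoc A A, hA, zero_mul, zero_mul]
  have hYXY : Y * X * Y = 0 := by
    rw [show Y * X * Y = R₂ * (U * X * R₂) * U by rw [hY]; simp only [mul_assoc],
      show U * X * R₂ = X * R₂ * U by rw [hUX, mul_assoc, hUR', ← mul_assoc],
      mul_assoc R₂, mul_assoc (X * R₂), hU, mul_zero, mul_zero]
  have hsum : X * Y + Y * X = A * U := by
    have e1 : X * Y = A * U * (R₁ * R₂) := by
      rw [hX, hY, show A * R₁ * (R₂ * U) = A * (R₁ * (R₂ * U)) by simp only [mul_assoc], ← hUR',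
        ← mul_assoc R₁, ← hUR]
      simp only [mul_assoc]
    have e2 : Y * X = A * U * (R₂ * R₁) := by
      rw [hX, hY, show R₂ * U * (A * R₁) = R₂ * (U * A) * R₁ by simp only [mul_assoc], ← hAU, ← mul_assoc,
        ← hAR', mul_assoc A R₂ U, ← hUR']
      simp only [mul_assoc]
    rw [e1, e2, ← mul_add, h12, mul_one]
  have hsq : ∀ Z : R, (1 + Z) * (1 + Z) = 1 + Z * Z := fun Z => by
    calc (1 + Z) * (1 + Z) = 1 + (Z + Z) + Z * Z := by noncomm_ring
      _ = 1 + Z * Z := by rw [hR, add_zero]
  calc (1 + X) * (1 + Y) * (1 + X) * (1 + Y) = (1 + (X + Y + X * Y)) * (1 + (X + Y + X * Y)) := by noncomm_ring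
    _ = 1 + (X + Y + X * Y) * (X + Y + X * Y) := hsq _
    _ = 1 + (X * X + X * X * Y + Y * Y + X * (Y * Y) + X * Y + Y * X + Y * X * Y + X * Y * X + X * (Y * X * Y)) := by
        noncomm_ring
    _ = 1 + A * U := by
        simp only [hXX, hYY, hYXY, hXYX, zero_mul, mul_zero, add_zero, zero_add]
        rw [hsum]

theorem mono_mul_single (p : Fin t × Fin m) (D : Finset (Fin t × Fin m)) (hp : p ∉ D)
    (d : Fin t × Fin m → Bool) :
    (mono {p} d * mono D d : Matrix (Idx t m) (Idx t m) F) = mono (insert p D) d := by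
  rw [mono_mul_disjoint (Finset.disjoint_singleton_left.mpr hp), Finset.insert_eq]
  exact mono_congr fun q _ => by by_cases hq : q ∈ ({p} : Finset _) <;> simp [Finset.piecewise, hq]

theorem commutator_mono {p r : Fin t × Fin m} {D : Finset (Fin t × Fin m)} (hpr : p ≠ r) (hp : p ∉ D) (hr : r ∉ D)
    (hD : D.Nonempty) (d : Fin t × Fin m → Bool) :
    (1 + mono {p, r} d) * (1 + mono (insert r D) (Function.update d r (!d r))) * (1 + mono {p, r} d) *
      (1 + mono (insert r D) (Function.update d r (!d r))) =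
      (1 + mono (insert p D) d : Matrix (Idx t m) (Idx t m) F) := by
  have hd' : ∀ q ∈ D, Function.update d r (!d r) q = d q := fun q hq =>
    Function.update_of_ne (fun e => hr (by rwa [← e])) _ _
  rw [show ({p, r} : Finset (Fin t × Fin m)) = insert p {r} from rfl,
    ← mono_mul_single p {r} (by simpa using hpr) d, ← mono_mul_single r D hr, mono_congr hd',
    ← mono_mul_single p D hp]
  exact commutator_eq matrix_add_self _ _ _ _ (mono_mul_self (Finset.singleton_nonempty p) _)
    (mono_mul_self (Finset.singleton_nonempty r) _) (mono_mul_self (Finset.singleton_nonempty r) _)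
    (mono_mul_self hD _) (mono_anticomm r d _ (Function.update_self r _ d))
    (mono_comm (Finset.disjoint_singleton.mpr hpr) _ _) (mono_comm (Finset.disjoint_singleton.mpr hpr) _ _)
    (mono_comm (Finset.disjoint_singleton_left.mpr hp) _ _)
    (mono_comm (Finset.disjoint_singleton_right.mpr hr) _ _) (mono_comm (Finset.disjoint_singleton_right.mpr hr) _ _)

theorem conj_mono_single {p : Fin t × Fin m} {D : Finset (Fin t × Fin m)} (hp : p ∈ D) (hD : (D.erase p).Nonempty)
    (d e : Fin t × Fin m → Bool) (he : e p = !d p) :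
    (1 + mono D d) * mono {p} e * (1 + mono D d) =
      (mono {p} e + mono (D.erase p) d : Matrix (Idx t m) (Idx t m) F) := by
  have hp' : p ∉ D.erase p := by simp
  conv_lhs => rw [← Finset.insert_erase hp, ← mono_mul_single p _ hp']
  set A : Matrix (Idx t m) (Idx t m) F := mono {p} d
  set A' : Matrix (Idx t m) (Idx t m) F := mono {p} e
  set U : Matrix (Idx t m) (Idx t m) F := mono (D.erase p) d
  have hUA : A * U = U * A := mono_comm (Finset.disjoint_singleton_left.mpr hp') _ _
  have hUA' : A' * U = U * A' := mono_comm (Finset.disjoint_singleton_left.mpr hp') _ _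
  have hUU : U * U = 0 := mono_mul_self hD _
  have hAA : A * A' + A' * A = 1 := mono_anticomm p d e he
  have h3 : A * U * A' * (A * U) = 0 := by
    calc A * U * A' * (A * U) = A * (U * A') * A * U := by simp only [mul_assoc]
      _ = A * A' * (U * A) * U := by rw [← hUA']; simp only [mul_assoc]
      _ = A * A' * A * (U * U) := by rw [← hUA]; simp only [mul_assoc]
      _ = 0 := by rw [hUU, mul_zero]
  calc (1 + A * U) * A' * (1 + A * U) = A' + (A' * (A * U) + A * U * A') + A * U * A' * (A * U) := by noncomm_ring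
    _ = A' + (A' * A + A * A') * U := by
        rw [h3, add_zero, add_mul, mul_assoc A U A', ← hUA']
        simp only [mul_assoc]
    _ = A' + U := by rw [add_comm (A' * A), hAA, one_mul]

theorem conj_mono_fix {p : Fin t × Fin m} {D : Finset (Fin t × Fin m)} (hD : D.Nonempty)
    (d e : Fin t × Fin m → Bool) (h : p ∈ D → e p = d p) :
    (1 + mono (F := F) D d) * mono {p} e * (1 + mono (F := F) D d) = mono {p} e := by
  have hc : (mono D d * mono {p} e : Matrix (Idx t m) (Idx t m) F) = mono {p} e * mono D d := by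
    by_cases hp : p ∈ D
    · have e1 : mono (F := F) {p} e = mono {p} d := mono_congr fun q hq => by
        rw [Finset.mem_singleton.mp hq, h hp]
      have hp' : p ∉ D.erase p := by simp
      rw [e1, ← Finset.insert_erase hp, ← mono_mul_single p _ hp']
      conv_lhs => rw [mul_assoc, ← mono_comm (Finset.disjoint_singleton_left.mpr hp'), ← mul_assoc,
        mono_mul_self (Finset.singleton_nonempty p), zero_mul]
      rw [← mul_assoc, mono_mul_self (Finset.singleton_nonempty p), zero_mul]
    · exact (mono_comm (Finset.disjoint_singleton_left.mpr hp) _ _).symm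
  calc (1 + mono (F := F) D d) * mono {p} e * (1 + mono (F := F) D d)
      = mono {p} e + (mono D d * mono {p} e + mono {p} e * mono D d) + (mono D d * mono {p} e) * mono D d := by
        noncomm_ring
    _ = mono {p} e := by
        rw [hc, matrix_add_self, mul_assoc, mono_mul_self hD, mul_zero, add_zero, add_zero]

/-- The span of `1` and the site operators. -/
def opSpan (t m : ℕ) (F : Type*) [Field F] : Submodule F (Matrix (Idx t m) (Idx t m) F) :=
  Submodule.span F (insert 1 (Set.range fun x : (Fin t × Fin m) × Bool => mono {x.1} fun _ => x.2))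

theorem mono_single_mem (p : Fin t × Fin m) (d : Fin t × Fin m → Bool) : mono {p} d ∈ opSpan t m F := by
  refine Submodule.subset_span (Set.mem_insert_of_mem _ ⟨(p, d p), ?_⟩)
  exact mono_congr fun q hq => by rw [Finset.mem_singleton.mp hq]

theorem one_mem_opSpan : (1 : Matrix (Idx t m) (Idx t m) F) ∈ opSpan t m F :=
  Submodule.subset_span (Set.mem_insert _ _)

theorem emb_mem_opSpan (i : Fin t) {X : Matrix (Bits m) (Bits m) F} (hX : X ∈ locSpan m F) :
    emb i X ∈ opSpan t m F := by
  induction hX using Submodule.span_induction with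
  | mem x hx =>
    rcases hx with rfl | ⟨⟨s, v⟩, rfl⟩
    · rw [emb_one]; exact one_mem_opSpan
    · have := mono_single_mem (F := F) (i, s) fun _ => v
      rwa [mono_single_eq_emb] at this
  | zero => rw [map_zero]; exact zero_mem _
  | add x y _ _ hx hy => rw [map_add]; exact add_mem hx hy
  | smul c x _ hx => rw [map_smul]; exact Submodule.smul_mem _ _ hx

/-- Elements of the span join only indices differing in at most one site. -/
theorem opSpan_entry {X : Matrix (Idx t m) (Idx t m) F} (hX : X ∈ opSpan t m F) {D : Finset (Fin t × Fin m)}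
    (hD : 2 ≤ D.card) (c : Idx t m) : X c (flipAt D c) = 0 := by
  obtain ⟨u, hu, v, hv, huv⟩ := Finset.one_lt_card.mp hD
  induction hX using Submodule.span_induction with
  | mem x hx =>
    rcases hx with rfl | ⟨⟨q, b⟩, rfl⟩
    · refine one_apply_ne fun e => ?_
      have h1 := (flipAt_eq_iff D c u).mp (congrFun (congrFun e.symm u.1) u.2)
      exact h1 hu
    · refine if_neg fun e => ?_
      have h1 : ∀ w, w ≠ q → w ∉ D := fun w hw => by
        rw [← flipAt_eq_iff D c w, congrFun (congrFun e.2 w.1) w.2]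
        exact (flipAt_eq_iff {q} c w).mpr (by simpa using hw)
      by_cases huq : u = q
      · exact h1 v (fun e' => huv (huq.trans e'.symm)) hv
      · exact h1 u huq hu
  | zero => rfl
  | add x y _ _ hx hy => rw [Matrix.add_apply, hx, hy, add_zero]
  | smul a x _ hx => rw [Matrix.smul_apply, hx, smul_zero]

theorem perm_mul_gram (π : Equiv.Perm (Fin t)) :
    perm (J := Bits m) π * gram t m F = gram t m F * perm π := by
  rw [← pure_gramLoc, perm_mul_pure]

theorem perm_transpose (π : Equiv.Perm (Fin t)) :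
    (perm (F := F) (J := Bits m) π)ᵀ = perm π⁻¹ := by
  ext c c'
  simp only [transpose_apply, perm]
  refine if_congr ⟨fun h => ?_, fun h => ?_⟩ rfl rfl <;> subst h <;> funext j <;> simp

theorem similitudes {gs : Fin t → Matrix (Bits m) (Bits m) F}
    (h : (pure gs)ᵀ * gram t m F * pure gs = gram t m F) (i : Fin t) :
    ∃ μ : F, (gs i)ᵀ * gramLoc m F * gs i = μ • gramLoc m F := by
  rw [← pure_gramLoc, pure_transpose, pure_mul, pure_mul] at h
  set M : Fin t → Matrix (Bits m) (Bits m) F := fun i => (gs i)ᵀ * gramLoc m F * gs i with hM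
  let a₀ : Bits m := fun _ => false
  let b₀ : Bits m := fun s => !a₀ s
  set r := ∏ j ∈ Finset.univ.erase i, M j a₀ b₀ with hr
  have hJ : gramLoc m F a₀ b₀ = 1 := if_pos rfl
  have key : ∀ a b, r * M i a b = gramLoc m F a b := by
    intro a b
    have h1 := congrFun (congrFun h (Function.update (fun _ => a₀) i a)) (Function.update (fun _ => b₀) i b)
    rw [pure_apply, pure_apply, ← Finset.mul_prod_erase _ _ (Finset.mem_univ i),
      ← Finset.mul_prod_erase _ _ (Finset.mem_univ i)] at h1
    simp only [Function.update_self] at h1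
    rw [Finset.prod_congr rfl (fun j hj => by
        rw [Function.update_of_ne (Finset.mem_erase.mp hj).1, Function.update_of_ne (Finset.mem_erase.mp hj).1]
        : ∀ j ∈ Finset.univ.erase i, _ = (M j a₀ b₀)),
      Finset.prod_eq_one (f := fun j => gramLoc m F (Function.update (fun _ => a₀) i a j)
        (Function.update (fun _ => b₀) i b j)) (fun j hj => by
        rw [Function.update_of_ne (Finset.mem_erase.mp hj).1, Function.update_of_ne (Finset.mem_erase.mp hj).1, hJ]),
      mul_one, mul_comm] at h1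
    exact h1
  have hr0 : r ≠ 0 := fun e => by
    have := key a₀ b₀
    rw [e, zero_mul, hJ] at this
    exact zero_ne_one this
  refine ⟨r⁻¹, ?_⟩
  ext a b
  rw [Matrix.smul_apply, smul_eq_mul, ← key a b, ← mul_assoc, inv_mul_cancel₀ hr0, one_mul]

variable {ι : Type} [Fintype ι] [DecidableEq ι] {Q : (ι → F) → F}

/-- Coordinates adapted to the tensor decomposition. -/
structure Setup (t m : ℕ) (Q : (ι → F) → F) (S : Subgroup (GL ι F)) where
  P : Matrix ι (Idx t m) F
  R : Matrix (Idx t m) ι F
  PR : P * R = 1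
  RP : R * P = 1
  c : F
  c_ne : c ≠ 0
  polar_eq : ∀ x y, QuadraticMap.polar Q (P *ᵥ x) (P *ᵥ y) = c * (x ⬝ᵥ (gram t m F *ᵥ y))
  single : ∀ a, Q (P *ᵥ Pi.single a 1) = 0
  dec : ∀ g ∈ S, ∃ (gs hs : Fin t → Matrix (Bits m) (Bits m) F) (π : Equiv.Perm (Fin t)),
    R * (g : Matrix ι ι F) * P = pure gs * perm π ∧ (∀ i, gs i * hs i = 1) ∧ ∀ i, hs i * gs i = 1

theorem exists_between (hQ : Cfsg.Geo.IsNondegenerateQuadraticForm Q) (S : Subgroup (GL ι F))
    (C : Setup t m Q S) (hm : m = 1 ∨ m = 2) (ht : 2 ≤ t) (htm : 4 ≤ t * m) :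
    ∃ K : Subgroup (GL ι F), S ⊓ Cfsg.Geo.omegaGL Q < K ∧ K < Cfsg.Geo.omegaGL Q := by
  classical
  let φ : GL ι F →* Matrix (Idx t m) (Idx t m) F :=
    { toFun := fun g => C.R * (g : Matrix ι ι F) * C.P
      map_one' := by rw [Units.val_one, Matrix.mul_one, C.RP]
      map_mul' := fun g h => by
        rw [Units.val_mul, show C.R * (g : Matrix ι ι F) * C.P * (C.R * (h : Matrix ι ι F) * C.P) =
          C.R * (g : Matrix ι ι F) * (C.P * C.R) * (h : Matrix ι ι F) * C.P by simp only [Matrix.mul_assoc],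
          C.PR, Matrix.mul_one]
        simp only [Matrix.mul_assoc] }
  have hval : ∀ g : GL ι F, (g : Matrix ι ι F) = C.P * φ g * C.R := fun g => by
    show _ = C.P * (C.R * (g : Matrix ι ι F) * C.P) * C.R
    rw [show C.P * (C.R * (g : Matrix ι ι F) * C.P) * C.R = C.P * C.R * (g : Matrix ι ι F) * (C.P * C.R) by
      simp only [Matrix.mul_assoc], C.PR, Matrix.one_mul, Matrix.mul_one]
  let W := opSpan t m F
  let Nor : Subgroup (GL ι F) :=
    { carrier := {g | (∀ X ∈ W, φ g * X * φ g⁻¹ ∈ W) ∧ ∀ X ∈ W, φ g⁻¹ * X * φ g ∈ W}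
      one_mem' := by simp
      mul_mem' := fun {g h} hg hh => ⟨fun X hX => by
          rw [_root_.mul_inv_rev, map_mul, map_mul]
          have := hg.1 _ (hh.1 X hX)
          simpa only [mul_assoc] using this, fun X hX => by
          rw [_root_.mul_inv_rev, map_mul, map_mul]
          have := hh.2 _ (hg.2 X hX)
          simpa only [mul_assoc] using this⟩
      inv_mem' := fun {g} hg => ⟨fun X hX => by rw [inv_inv]; exact hg.2 X hX,
        fun X hX => by rw [inv_inv]; exact hg.1 X hX⟩ }
  -- the stabiliser normalises the span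
  have hiso : ∀ g ∈ Cfsg.Geo.omegaGL Q, ∀ v, Q ((g : Matrix ι ι F) *ᵥ v) = Q v := fun g hg v => by
    obtain ⟨g', -, rfl⟩ := hg
    exact g'.2 v v
  have hgram : ∀ g ∈ Cfsg.Geo.omegaGL Q, (φ g)ᵀ * gram t m F * φ g = gram t m F := by
    intro g hg
    have hb : ∀ x y, (φ g *ᵥ x) ⬝ᵥ (gram t m F *ᵥ (φ g *ᵥ y)) = x ⬝ᵥ (gram t m F *ᵥ y) := fun x y => by
      refine mul_left_cancel₀ C.c_ne ?_
      rw [← C.polar_eq, ← C.polar_eq]
      have hgP : ∀ x, C.P *ᵥ (φ g *ᵥ x) = (g : Matrix ι ι F) *ᵥ (C.P *ᵥ x) := fun x => by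
        rw [mulVec_mulVec, mulVec_mulVec, hval g, Matrix.mul_assoc (C.P * φ g), C.RP, Matrix.mul_one]
      rw [hgP, hgP, QuadraticMap.polar, QuadraticMap.polar, ← mulVec_add, hiso g hg, hiso g hg, hiso g hg]
    ext a b
    have := hb (Pi.single a 1) (Pi.single b 1)
    rw [← vecMul_transpose, ← dotProduct_mulVec, mulVec_mulVec, mulVec_mulVec] at this
    simpa [← Matrix.mul_assoc, mulVec_single_one, single_dotProduct] using this
  have hSN : S ⊓ Cfsg.Geo.omegaGL Q ≤ Nor := by
    have key : ∀ g ∈ S ⊓ Cfsg.Geo.omegaGL Q, ∀ X ∈ W, φ g * X * φ g⁻¹ ∈ W := by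
      rintro g ⟨hgS, hgO⟩ X hX
      obtain ⟨gs, hs, π, hY, h1, h2⟩ := C.dec g hgS
      change φ g = _ at hY
      have hYinv : φ g⁻¹ = perm π⁻¹ * pure hs := by
        have e1 : φ g⁻¹ * φ g = 1 := by rw [← map_mul, inv_mul_cancel, map_one]
        have e2 : φ g * (perm π⁻¹ * pure hs) = 1 := by
          rw [hY, mul_assoc, ← mul_assoc (perm π), perm_mul, mul_inv_cancel, perm_one, one_mul, pure_mul,
            funext h1, pure_one]
        exact left_inv_eq_right_inv e1 e2
      have hp : (pure gs)ᵀ * gram t m F * pure gs = gram t m F := by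
        have := hgram g hgO
        rw [hY, transpose_mul, perm_transpose] at this
        have h3 := congrArg (fun M => perm π * M * perm π⁻¹) this
        rw [show perm (F := F) (J := Bits m) π * (perm π⁻¹ * (pure gs)ᵀ * gram t m F * (pure gs * perm π)) * perm π⁻¹ =
          (perm π * perm π⁻¹) * ((pure gs)ᵀ * gram t m F * pure gs) * (perm π * perm π⁻¹) by
          simp only [mul_assoc], perm_mul_gram, mul_assoc, perm_mul, mul_inv_cancel, perm_one, one_mul, mul_one] at h3
        rw [h3, mul_assoc, perm_mul, mul_inv_cancel, perm_one, mul_one]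
      induction hX using Submodule.span_induction with
      | mem x hx =>
        rcases hx with rfl | ⟨⟨q, v⟩, rfl⟩
        · rw [mul_one, ← map_mul, mul_inv_cancel, map_one]; exact one_mem_opSpan
        · show φ g * mono {q} (fun _ => v) * φ g⁻¹ ∈ W
          rw [hY, hYinv, mono_single_eq_emb,
            show pure gs * perm π * emb q.1 (site q.2 v) * (perm π⁻¹ * pure hs) =
              pure gs * (perm π * emb q.1 (site (F := F) q.2 v) * perm π⁻¹) * pure hs by simp only [mul_assoc],
            perm_mul_emb, pure_mul_emb gs hs h1]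
          obtain ⟨μ, hμ⟩ := similitudes hp (π q.1)
          exact emb_mem_opSpan _ (locSpan_conj hm (h1 _) (h2 _) hμ (site_mem_locSpan _ _))
      | zero => rw [mul_zero, zero_mul]; exact zero_mem _
      | add x y _ _ hx hy => rw [mul_add, add_mul]; exact add_mem hx hy
      | smul a x _ hx => rw [mul_smul_comm, smul_mul_assoc]; exact Submodule.smul_mem _ _ hx
    intro g hg
    refine ⟨key g hg, fun X hX => ?_⟩
    have := key g⁻¹ (inv_mem hg) X hX
    rwa [inv_inv] at this
  -- the involutions
  let U : Finset (Fin t × Fin m) → (Fin t × Fin m → Bool) → Matrix ι ι F :=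
    fun D d => C.P * (1 + mono (F := F) D d : Matrix (Idx t m) (Idx t m) F) * C.R
  have hUU : ∀ D : Finset (Fin t × Fin m), D.Nonempty → ∀ d, U D d * U D d = 1 := fun D hD d => by
    show C.P * (1 + mono (F := F) D d) * C.R * (C.P * (1 + mono (F := F) D d) * C.R) = 1
    rw [show C.P * (1 + mono (F := F) D d) * C.R * (C.P * (1 + mono (F := F) D d) * C.R) =
        C.P * ((1 + mono (F := F) D d) * ((C.R * C.P) * (1 + mono (F := F) D d))) * C.R by simp only [Matrix.mul_assoc],
      C.RP, Matrix.one_mul, add_mul, mul_add, mul_add, one_mul, one_mul, mul_one, mono_mul_self hD, add_zero,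
      add_assoc, matrix_add_self, add_zero, Matrix.mul_one, C.PR]
  let T : ∀ D : Finset (Fin t × Fin m), D.Nonempty → (Fin t × Fin m → Bool) → GL ι F :=
    fun D hD d => ⟨U D d, U D d, hUU D hD d, hUU D hD d⟩
  have hTinv : ∀ D hD d, (T D hD d)⁻¹ = T D hD d := fun D hD d => Units.ext rfl
  have hTφ : ∀ D hD d, φ (T D hD d) = 1 + mono D d := fun D hD d => by
    show C.R * (C.P * (1 + mono (F := F) D d) * C.R) * C.P = _
    rw [show C.R * (C.P * (1 + mono (F := F) D d) * C.R) * C.P = (C.R * C.P) * ((1 + mono (F := F) D d) * (C.R * C.P)) by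
      simp only [Matrix.mul_assoc], C.RP, Matrix.one_mul, Matrix.mul_one]
  have hTiso : ∀ D hD d, D ≠ Finset.univ → T D hD d ∈ Cfsg.isometryGroup F Q := by
    intro D hD d hDu
    show ∀ v u : ι → F, Q ((T D hD d : Matrix ι ι F) *ᵥ v) = Q v
    intro v _
    set X : Matrix (Idx t m) (Idx t m) F := mono D d
    have hb := hQ.polar_bilinear
    let q : (Idx t m → F) → F := fun x => Q (C.P *ᵥ (X *ᵥ x)) + QuadraticMap.polar Q (C.P *ᵥ x) (C.P *ᵥ (X *ᵥ x))
    have hQadd : ∀ a b, Q (a + b) = Q a + Q b + QuadraticMap.polar Q a b := fun a b => by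
      unfold QuadraticMap.polar; ring
    have hG : ∀ x y, (X *ᵥ x) ⬝ᵥ (gram t m F *ᵥ y) = x ⬝ᵥ (gram t m F *ᵥ (X *ᵥ y)) := fun x y => by
      rw [← vecMul_transpose, ← dotProduct_mulVec, mulVec_mulVec _ Xᵀ, ← gram_mul_mono, ← mulVec_mulVec]
    have hXX : ∀ x y, QuadraticMap.polar Q (C.P *ᵥ (X *ᵥ x)) (C.P *ᵥ (X *ᵥ y)) = 0 := fun x y => by
      rw [C.polar_eq, hG, mulVec_mulVec _ X X, mono_mul_self hD, zero_mulVec, mulVec_zero, dotProduct_zero, mul_zero]
    have hsymm : ∀ x y, QuadraticMap.polar Q (C.P *ᵥ x) (C.P *ᵥ (X *ᵥ y)) =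
        QuadraticMap.polar Q (C.P *ᵥ y) (C.P *ᵥ (X *ᵥ x)) := fun x y => by
      rw [QuadraticMap.polar_comm _ (C.P *ᵥ y), C.polar_eq, C.polar_eq, hG]
    have hadd : ∀ x y, q (x + y) = q x + q y := fun x y => by
      show Q _ + _ = _
      rw [mulVec_add, mulVec_add, mulVec_add, hQadd, hXX, hb.add_left, hb.add_right, hb.add_right, hsymm y x]
      linear_combination QuadraticMap.polar Q (C.P *ᵥ x) (C.P *ᵥ (X *ᵥ y)) * (CharTwo.two_eq_zero (R := F))
    have hsingle : ∀ a r, q (Pi.single a r) = 0 := by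
      intro a r
      have hX : X *ᵥ (Pi.single a r) = if (∀ p ∈ D, flipAt D a p.1 p.2 = d p) then Pi.single (flipAt D a) r else 0 := by
        ext b
        rw [mulVec_single]
        simp only [Pi.smul_apply, col_apply, MulOpposite.smul_eq_mul_unop, MulOpposite.unop_op]
        show mono (F := F) D d b a * r = _
        by_cases hb' : b = flipAt D a
        · subst hb'
          rw [mono, flipAt_flipAt]
          by_cases hc : ∀ p ∈ D, flipAt D a p.1 p.2 = d p
          · rw [if_pos ⟨hc, rfl⟩, if_pos hc, Pi.single_eq_same, one_mul]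
          · rw [if_neg (fun e => hc e.1), if_neg hc, zero_mul, Pi.zero_apply]
        · rw [mono, if_neg (fun e => hb' (by rw [e.2, flipAt_flipAt])), zero_mul]
          split_ifs with hc
          · rw [Pi.single_eq_of_ne hb']
          · rfl
      show Q _ + _ = 0
      rw [hX]
      split_ifs with hc
      · have hs1 : ∀ b : Idx t m, C.P *ᵥ (Pi.single b r) = r • (C.P *ᵥ Pi.single b 1) := fun b => by
          rw [← mulVec_smul, ← Pi.single_smul, smul_eq_mul, mul_one]
        rw [C.polar_eq, hs1, hQ.smul, C.single, mul_zero, zero_add, mulVec_single, single_dotProduct,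
          Pi.smul_apply, col_apply, gram, if_neg, smul_zero, mul_zero, mul_zero]
        intro e
        refine hDu (Finset.eq_univ_of_forall fun p => ?_)
        by_contra hp
        have h1 := (flipAt_eq_iff D a p).mpr hp
        rw [congrFun (congrFun e p.1) p.2] at h1
        simp [anti] at h1
      · have hz : Q 0 = 0 := by
          have := hQ.smul 0 0
          rwa [zero_smul, zero_pow two_ne_zero, zero_mul] at this
        simp [QuadraticMap.polar, hz]
    have hq : ∀ x, q x = 0 := by
      let qh : (Idx t m → F) →+ F := AddMonoidHom.mk' q hadd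
      intro x
      have e : qh x = 0 := by
        rw [show x = ∑ a, Pi.single a (x a) from (Finset.univ_sum_single x).symm, map_sum]
        exact Finset.sum_eq_zero fun a _ => hsingle a _
      exact e
    show Q ((C.P * (1 + X) * C.R) *ᵥ v) = Q v
    rw [← mulVec_mulVec, ← mulVec_mulVec, add_mulVec, one_mulVec, mulVec_add, hQadd, mulVec_mulVec _ C.P C.R, C.PR,
      one_mulVec, add_assoc]
    have := hq (C.R *ᵥ v)
    change Q _ + _ = 0 at this
    rw [mulVec_mulVec _ C.P C.R, C.PR, one_mulVec] at this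
    rw [this, add_zero]
  have hTom : ∀ (p r : Fin t × Fin m) (D : Finset (Fin t × Fin m)) (hD : D.Nonempty) (d : Fin t × Fin m → Bool),
      p ≠ r → p ∉ D → r ∉ D → 2 < t * m →
      T (insert p D) (Finset.insert_nonempty p D) d ∈ Cfsg.Geo.omegaGL Q := by
    intro p r D hD d hpr hp hr h2
    set d' := Function.update d r (!d r)
    have hu1 : ({p, r} : Finset (Fin t × Fin m)) ≠ Finset.univ := fun e => by
      have h1 := congrArg Finset.card e
      rw [Finset.card_pair hpr, Finset.card_univ, Fintype.card_prod, Fintype.card_fin, Fintype.card_fin] at h1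
      omega
    have hu2 : insert r D ≠ Finset.univ := fun e => by
      have h1 : p ∈ insert r D := e ▸ Finset.mem_univ p
      rcases Finset.mem_insert.mp h1 with h | h
      · exact hpr h
      · exact hp h
    let a : Cfsg.isometryGroup F Q := ⟨_, hTiso {p, r} (Finset.insert_nonempty _ _) d hu1⟩
    let b : Cfsg.isometryGroup F Q := ⟨_, hTiso (insert r D) (Finset.insert_nonempty _ _) d' hu2⟩
    refine ⟨a * b * a⁻¹ * b⁻¹, ?_, ?_⟩
    · have := Subgroup.commutator_mem_commutator (Subgroup.mem_top a) (Subgroup.mem_top b)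
      rw [commutatorElement_def] at this
      exact this
    · simp only [Subgroup.coe_subtype, Subgroup.coe_mul, InvMemClass.coe_inv, a, b, hTinv]
      refine Units.ext ?_
      rw [hval, hval (T (insert p D) (Finset.insert_nonempty p D) d)]
      simp only [map_mul, hTφ]
      rw [commutator_mono hpr hp hr hD]
  -- four sites
  have hm0 : 0 < m := by omega
  let p : Fin t × Fin m := (⟨0, by omega⟩, ⟨0, hm0⟩)
  let u : Fin t × Fin m := (⟨1, by omega⟩, ⟨0, hm0⟩)
  have hpu : p.1 ≠ u.1 := fun e => by simp [p, u, Fin.ext_iff] at e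
  have hpu' : p ≠ u := fun e => hpu (congrArg Prod.fst e)
  obtain ⟨r, hr, v, hv, hrv⟩ := Finset.one_lt_card.mp
    (show 1 < ((Finset.univ : Finset (Fin t × Fin m)) \ {p, u}).card by
      rw [Finset.card_sdiff_of_subset (Finset.subset_univ _), Finset.card_univ, Fintype.card_prod, Fintype.card_fin,
        Fintype.card_fin, Finset.card_pair hpu']
      omega)
  simp only [Finset.mem_sdiff, Finset.mem_univ, true_and, Finset.mem_insert, Finset.mem_singleton, not_or] at hr hv
  let d : Fin t × Fin m → Bool := fun _ => true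
  let e₀ : Fin t × Fin m → Bool := fun _ => false
  let g₂ := T {p, u} (Finset.insert_nonempty _ _) d
  let g₃ := T {p, u, v} (Finset.insert_nonempty _ _) d
  have hg₂O : g₂ ∈ Cfsg.Geo.omegaGL Q :=
    hTom p r {u} (Finset.singleton_nonempty u) d (Ne.symm hr.1) (by simpa using hpu') (by simpa using hr.2) (by omega)
  have hg₃O : g₃ ∈ Cfsg.Geo.omegaGL Q :=
    hTom p r {u, v} (Finset.insert_nonempty _ _) d (Ne.symm hr.1) (by simp [hpu', Ne.symm hv.1]) (by simp [hr.2, hrv])
      (by omega)
  have hφ₂ : φ g₂ = 1 + mono {p, u} d := hTφ {p, u} (Finset.insert_nonempty _ _) d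
  have hi₂ : g₂⁻¹ = g₂ := hTinv {p, u} (Finset.insert_nonempty _ _) d
  have hφ₃ : φ g₃ = 1 + mono {p, u, v} d := hTφ {p, u, v} (Finset.insert_nonempty _ _) d
  have hi₃ : g₃⁻¹ = g₃ := hTinv {p, u, v} (Finset.insert_nonempty _ _) d
  have hg₂N : g₂ ∈ Nor := by
    have key : ∀ X ∈ W, φ g₂ * X * φ g₂ ∈ W := by
      intro X hX
      rw [hφ₂]
      induction hX using Submodule.span_induction with
      | mem x hx =>
        rcases hx with rfl | ⟨⟨q, b⟩, rfl⟩
        · rw [mul_one, add_mul, mul_add, mul_add, one_mul, one_mul, mul_one,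
            mono_mul_self (Finset.insert_nonempty _ _), add_zero, add_assoc, matrix_add_self, add_zero]
          exact one_mem_opSpan
        · show (1 + mono {p, u} d) * mono {q} (fun _ => b) * (1 + mono {p, u} d) ∈ W
          by_cases hc : q ∈ ({p, u} : Finset _) → b = d q
          · rw [conj_mono_fix (Finset.insert_nonempty _ _) d _ hc]
            exact mono_single_mem _ _
          · push Not at hc
            obtain ⟨hq, hb⟩ := hc
            obtain ⟨w, hw⟩ : ∃ w, ({p, u} : Finset (Fin t × Fin m)).erase q = {w} := by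
              rw [← Finset.card_eq_one, Finset.card_erase_of_mem hq, Finset.card_pair hpu']
            rw [conj_mono_single hq (hw ▸ Finset.singleton_nonempty w) d _ (by
              show b = !d q; revert hb; cases b <;> cases d q <;> simp), hw]
            exact add_mem (mono_single_mem _ _) (mono_single_mem _ _)
      | zero => rw [mul_zero, zero_mul]; exact zero_mem _
      | add x y _ _ hx hy =>
        rw [mul_add (1 + mono {p, u} d) x y, add_mul _ _ (1 + mono {p, u} d)]; exact add_mem hx hy
      | smul a x _ hx => rw [mul_smul_comm, smul_mul_assoc]; exact Submodule.smul_mem _ _ hx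
    exact ⟨fun X hX => by rw [hi₂]; exact key X hX, fun X hX => by rw [hi₂]; exact key X hX⟩
  have hg₂S : g₂ ∉ S := by
    intro hS
    obtain ⟨gs, hs, π, hY, h1, h2⟩ := C.dec g₂ hS
    change φ g₂ = _ at hY
    have hYi : φ g₂ = perm π⁻¹ * pure hs := by
      have e1 : φ g₂ * φ g₂ = 1 := by
        have : g₂ * g₂ = 1 := by nth_rewrite 2 [← hi₂]; exact mul_inv_cancel g₂
        rw [← map_mul, this, map_one]
      have e2 : φ g₂ * (perm π⁻¹ * pure hs) = 1 := by
        rw [hY, mul_assoc, ← mul_assoc (perm π), perm_mul, mul_inv_cancel, perm_one, one_mul, pure_mul,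
          funext h1, pure_one]
      exact left_inv_eq_right_inv e1 e2
    have hloc : φ g₂ * mono {p} e₀ * φ g₂ = emb (π p.1) (gs (π p.1) * site p.2 false * hs (π p.1)) := by
      conv_lhs => arg 2; rw [hYi]
      rw [hY, mono_single_eq_emb,
        show pure gs * perm π * emb p.1 (site p.2 (e₀ p)) * (perm π⁻¹ * pure hs) =
          pure gs * (perm π * emb p.1 (site (F := F) p.2 (e₀ p)) * perm π⁻¹) * pure hs by simp only [mul_assoc],
        perm_mul_emb, pure_mul_emb gs hs h1]
    rw [hφ₂, conj_mono_single (Finset.mem_insert_self p _) ⟨u, by simp [hpu'.symm]⟩ d e₀ rfl,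
      Finset.erase_insert (by simpa using hpu')] at hloc
    -- the sum moves two factors
    have hne : ∀ (q : Fin t × Fin m) (c : Idx t m) (i : Fin t) (X : Matrix (Bits m) (Bits m) F), q.1 ≠ i →
        emb i X c (flipAt {q} c) = 0 := fun q c i X hq => by
      rw [emb_apply, if_neg]
      intro hc
      have := (flipAt_eq_iff {q} c q).mp (congrFun (hc q.1 hq).symm q.2)
      simp at this
    rcases eq_or_ne p.1 (π p.1) with hπ | hπ
    · have h3 := congrFun (congrFun hloc (fun _ _ => true)) (flipAt {u} fun _ _ => true)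
      rw [hne u _ _ _ (by rw [← hπ]; exact hpu.symm), Matrix.add_apply, mono, if_neg, mono, if_pos, zero_add] at h3
      · exact one_ne_zero h3
      · exact ⟨fun q _ => rfl, rfl⟩
      · rintro ⟨hh, -⟩
        simpa [e₀] using hh p (Finset.mem_singleton_self p)
    · have h3 := congrFun (congrFun hloc (fun _ _ => false)) (flipAt {p} fun _ _ => false)
      rw [hne p _ _ _ hπ, Matrix.add_apply, mono, if_pos, mono, if_neg, add_zero] at h3
      · exact one_ne_zero h3
      · rintro ⟨hh, -⟩
        simpa [d] using hh u (Finset.mem_singleton_self u)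
      · exact ⟨fun q _ => rfl, rfl⟩
  have hg₃N : g₃ ∉ Nor := by
    intro hN
    have h3 := hN.1 _ (mono_single_mem p e₀)
    rw [hi₃, hφ₃, conj_mono_single (Finset.mem_insert_self p _) ⟨u, by simp [hpu'.symm]⟩ d e₀ rfl,
      Finset.erase_insert (by simp [hpu', Ne.symm hv.1])] at h3
    have hc2 : 2 ≤ ({u, v} : Finset (Fin t × Fin m)).card := by rw [Finset.card_pair (Ne.symm hv.2)]
    have h4 := opSpan_entry h3 hc2 (fun _ _ => true)
    rw [Matrix.add_apply, opSpan_entry (mono_single_mem p e₀) hc2, mono, if_pos, zero_add] at h4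
    · exact one_ne_zero h4
    · exact ⟨fun q _ => rfl, rfl⟩
  refine ⟨Nor ⊓ Cfsg.Geo.omegaGL Q, lt_of_le_of_ne (le_inf hSN inf_le_right) fun e => hg₂S ?_,
    lt_of_le_of_ne inf_le_right fun e => hg₃N ?_⟩
  · exact (e.ge ⟨hg₂N, hg₂O⟩ : g₂ ∈ S ⊓ _).1
  · exact (e.ge hg₃O : g₃ ∈ Nor ⊓ _).1

end CfsgLib.Geo.SpinTensor
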