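import Cfsg.Agent.Lib.Geo.SpinTensor.Main
import Cfsg.Agent.Lib.Classical.Symplectic.Geometry

/-!
Symplectic bases on the factors and the normal form of the elements of the wreath stabiliser.
-/

set_option autoImplicit false
set_option linter.all false

namespace CfsgLib.Geo.SpinTensor

open Matrix

variable {F : Type*} [Field F]

/-- Elements of the standard wreath group. -/
theorem standard_dec {k t : ℕ} {g : GL (Fin t → Fin k) F} (hg : g ∈ Cfsg.Geo.tensorWreathStandard k t F) :
    ∃ (gs : Fin t → GL (Fin k) F) (π : Equiv.Perm (Fin t)),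
      (g : Matrix (Fin t → Fin k) (Fin t → Fin k) F) = pure (fun i => (gs i : Matrix (Fin k) (Fin k) F)) * perm π := by
  induction hg using Subgroup.closure_induction with
  | mem g hg =>
    rcases hg with ⟨gs, hgs⟩ | ⟨σ, hσ⟩
    · exact ⟨gs, 1, by rw [perm_one, mul_one]; ext x y; exact hgs x y⟩
    · refine ⟨fun _ => 1, σ, ?_⟩
      simp only [Units.val_one]
      rw [pure_one, one_mul]
      ext x y
      exact hσ x y
  | one => exact ⟨fun _ => 1, 1, by simp only [Units.val_one]; rw [pure_one, perm_one, one_mul]⟩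
  | mul a b _ _ ha hb =>
    obtain ⟨gs, π, ha⟩ := ha
    obtain ⟨hs, ρ, hb⟩ := hb
    refine ⟨fun i => gs i * hs (π⁻¹ i), π * ρ, ?_⟩
    rw [Units.val_mul, ha, hb, mul_assoc, ← mul_assoc (perm π), perm_mul_pure, mul_assoc, perm_mul, ← mul_assoc,
      pure_mul]
    rfl
  | inv a _ ha =>
    obtain ⟨gs, π, ha⟩ := ha
    refine ⟨fun i => (gs (π i))⁻¹, π⁻¹, ?_⟩
    refine left_inv_eq_right_inv a.inv_mul ?_
    rw [ha, show (fun i => (((gs (π i))⁻¹ : GL (Fin k) F) : Matrix (Fin k) (Fin k) F)) =
      fun i => (fun j => (((gs j)⁻¹ : GL (Fin k) F) : Matrix (Fin k) (Fin k) F)) (π i) from rfl]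
    rw [show pure (fun i => (fun j => (((gs j)⁻¹ : GL (Fin k) F) : Matrix (Fin k) (Fin k) F)) (π i)) * perm π⁻¹ =
        perm π⁻¹ * pure (fun j => (((gs j)⁻¹ : GL (Fin k) F) : Matrix (Fin k) (Fin k) F)) by
      rw [perm_mul_pure, inv_inv]]
    rw [mul_assoc, ← mul_assoc (perm π), perm_mul, mul_inv_cancel, perm_one, one_mul, pure_mul]
    simp only [Units.mul_inv]
    exact pure_one

theorem exists_setup {n : ℕ} (hn : 13 ≤ n) {Q : (Fin n → F) → F} [CharP F 2] {k t : ℕ} (ht : 2 ≤ t) (hk : k ≤ 4)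
    (e : Fin n ≃ (Fin t → Fin k)) (P : GL (Fin n) F) (f₁ : (Fin k → F) → (Fin k → F) → F)
    (hf₁ : Cfsg.Geo.IsSymplecticForm f₁)
    (hT : Cfsg.Geo.IsTensorPowerFormStructure id (QuadraticMap.polar Q) f₁ e P)
    (hpure : ∀ xs : Fin t → (Fin k → F),
      Q ((P : Matrix (Fin n) (Fin n) F) *ᵥ ((fun a : Fin t → Fin k => ∏ i, xs i (a i)) ∘ e)) = 0) :
    ∃ m, (m = 1 ∨ m = 2) ∧ 4 ≤ t * m ∧ Nonempty (Setup t m Q (Cfsg.Geo.tensorWreathSubgroup k t e P)) := by
  classical
  let B : LinearMap.BilinForm F (Fin k → F) :=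
    LinearMap.mk₂ F f₁ hf₁.bilinear.add_left hf₁.bilinear.smul_left hf₁.bilinear.add_right hf₁.bilinear.smul_right
  have hA : B.IsAlt := hf₁.alternating
  have hB : B.Nondegenerate := by
    constructor
    · intro x hx
      by_contra h
      obtain ⟨y, hy⟩ := (hf₁.nondegenerate x h).2
      exact hy (hx y)
    · intro y hy
      by_contra h
      obtain ⟨x, hx⟩ := (hf₁.nondegenerate y h).1
      exact hx (hy x)
  obtain ⟨m, v, ⟨hv1, hv2, hv3⟩, hdim⟩ := CfsgLib.Classical.Symp.exists_sympSys hA hB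
  rw [Module.finrank_pi, Fintype.card_fin] at hdim
  have hnk : n = k ^ t := by simpa using Fintype.card_congr e
  have hm : m = 1 ∨ m = 2 := by
    rcases Nat.eq_zero_or_pos m with rfl | h
    · rw [hdim, mul_zero, zero_pow (by omega)] at hnk; omega
    · omega
  have htm : 4 ≤ t * m := by
    rcases hm with rfl | rfl
    · by_contra h
      push Not at h
      have : n ≤ 2 ^ 3 := by
        rw [hnk, hdim, mul_one]; exact Nat.pow_le_pow_right (by norm_num) (by omega)
      omega
    · omega
  have hcard : Fintype.card (Bits m) = Fintype.card (Fin k) := by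
    rw [Fintype.card_fun, Fintype.card_bool, Fintype.card_fin, Fintype.card_fin, hdim]
    rcases hm with rfl | rfl <;> norm_num
  obtain ⟨β, hβ⟩ : ∃ β : Bits m → Fin m ⊕ Fin m, ∀ a b, B (v (β a)) (v (β b)) = gramLoc m F a b := by
    have h21 : ∀ i j, B (v (.inr i)) (v (.inl j)) = if j = i then 1 else 0 := fun i j => by
      show f₁ _ _ = _
      rw [hf₁.skew, show f₁ (v (.inl j)) (v (.inr i)) = _ from hv1 j i]
      split_ifs <;> simp [CharTwo.neg_eq]
    rcases hm with rfl | rfl
    · refine ⟨fun a => if a 0 then .inr 0 else .inl 0, fun a b => ?_⟩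
      rcases bits_one a with rfl | rfl <;> rcases bits_one b with rfl | rfl <;>
        simp [gramLoc, hv1, hv2, hv3, h21, funext_iff, Fin.forall_fin_one]
    · refine ⟨fun a => if a 0 then (if a 1 then .inr 0 else .inr 1) else (if a 1 then .inl 1 else .inl 0),
        fun a b => ?_⟩
      rcases bits_two a with rfl | rfl | rfl | rfl <;> rcases bits_two b with rfl | rfl | rfl | rfl <;>
        simp [gramLoc, hv1, hv2, hv3, h21, funext_iff, Fin.forall_fin_two]
  let G : Matrix (Fin k) (Fin k) F := Cfsg.Geo.gramMatrix f₁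
  let V : Matrix (Fin k) (Bits m) F := fun j a => v (β a) j
  have hBG : ∀ x y, B x y = x ⬝ᵥ (G *ᵥ y) := fun x y => by
    conv_lhs => rw [show x = ∑ i, x i • Pi.single i (1 : F) from pi_eq_sum_univ' x,
      show y = ∑ i, y i • Pi.single i (1 : F) from pi_eq_sum_univ' y]
    simp only [map_sum, map_smul, LinearMap.sum_apply, LinearMap.smul_apply, smul_eq_mul, dotProduct, mulVec,
      Finset.mul_sum]
    rw [Finset.sum_comm]
    exact Finset.sum_congr rfl fun i _ => Finset.sum_congr rfl fun j _ => by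
      show _ * (_ * f₁ _ _) = x i * (f₁ _ _ * y j)
      ring
  have hVGV : Vᵀ * G * V = gramLoc m F := by
    ext a b
    rw [← hβ a b, hBG, Matrix.mul_assoc]
    rfl
  have hJJ : gramLoc m F * gramLoc m F = 1 := by
    ext a b
    rw [gramLoc_mul_apply, gramLoc, one_apply]
    simp only [Bool.not_not, eq_comm]
  let W : Matrix (Bits m) (Fin k) F := gramLoc m F * Vᵀ * G
  have hWV : W * V = 1 := by
    show gramLoc m F * Vᵀ * G * V = 1
    rw [show gramLoc m F * Vᵀ * G * V = gramLoc m F * (Vᵀ * G * V) by simp only [Matrix.mul_assoc], hVGV, hJJ]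
  have hVW : V * W = 1 := (Matrix.mul_eq_one_comm_of_equiv (Fintype.card_eq.mp hcard).some).mp hWV
  let Pe : Matrix (Fin n) (Fin t → Fin k) F := (P : Matrix (Fin n) (Fin n) F).submatrix id e.symm
  let Pi : Matrix (Fin t → Fin k) (Fin n) F :=
    ((P⁻¹ : GL (Fin n) F) : Matrix (Fin n) (Fin n) F).submatrix e.symm id
  have hPP : Pe * Pi = 1 := by
    show Matrix.submatrix _ id e.symm * Matrix.submatrix _ e.symm id = 1
    rw [Matrix.submatrix_mul_equiv, Units.mul_inv, Matrix.submatrix_id_id]
  have hPP' : Pi * Pe = 1 := by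
    show Matrix.submatrix _ e.symm id * Matrix.submatrix _ id e.symm = 1
    rw [← Matrix.submatrix_mul _ _ _ id _ Function.bijective_id, Units.inv_mul,
      Matrix.submatrix_one _ e.symm.injective]
  have hPe : ∀ x, Pe *ᵥ x = (P : Matrix (Fin n) (Fin n) F) *ᵥ (x ∘ e) := fun x => by
    show Matrix.submatrix _ id e.symm *ᵥ x = _
    rw [Matrix.submatrix_mulVec_equiv]
    rfl
  obtain ⟨c, hc, hT⟩ := hT
  refine ⟨m, hm, htm, ⟨{
    P := Pe * pure (fun _ : Fin t => V)
    R := pure (fun _ : Fin t => W) * Pi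
    PR := by
      rw [Matrix.mul_assoc, ← Matrix.mul_assoc (pure _) (pure _) Pi, pure_mul, hVW, pure_one, Matrix.one_mul, hPP]
    RP := by
      rw [Matrix.mul_assoc, ← Matrix.mul_assoc Pi, hPP', Matrix.one_mul, pure_mul, hWV, pure_one]
    c := c
    c_ne := hc
    polar_eq := fun x y => by
      rw [← mulVec_mulVec, ← mulVec_mulVec, hPe, hPe, hT]
      congr 1
      rw [show gram t m F = (pure (fun _ : Fin t => V))ᵀ * pure (fun _ : Fin t => G) * pure (fun _ : Fin t => V) by
        rw [pure_transpose, pure_mul, pure_mul, hVGV, pure_gramLoc]]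
      rw [← mulVec_mulVec, ← mulVec_mulVec, dotProduct_mulVec x, vecMul_transpose]
      simp only [dotProduct, id_eq]
      refine Finset.sum_congr rfl fun a _ => ?_
      simp only [mulVec, dotProduct]
      rw [Finset.mul_sum]
      exact Finset.sum_congr rfl fun b _ => by rw [mul_assoc, pure_apply]
    single := fun a => by
      rw [← mulVec_mulVec, hPe, mulVec_single_one]
      exact hpure fun i j => V j (a i)
    dec := by
      rintro g hg
      obtain ⟨g', ⟨g'', hg'', rfl⟩, rfl⟩ := hg
      obtain ⟨gs, π, hgs⟩ := standard_dec hg''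
      refine ⟨fun i => W * (gs i : Matrix (Fin k) (Fin k) F) * V,
        fun i => W * (((gs i)⁻¹ : GL (Fin k) F) : Matrix (Fin k) (Fin k) F) * V, π, ?_, fun i => ?_, fun i => ?_⟩
      · show pure (fun _ : Fin t => W) * Pi * (((MulAut.conj P) (Cfsg.Geo.glReindex e.symm g'') :
          GL (Fin n) F) : Matrix (Fin n) (Fin n) F) * (Pe * pure (fun _ : Fin t => V)) = _
        have hmid : Pi * (((MulAut.conj P) (Cfsg.Geo.glReindex e.symm g'') : GL (Fin n) F) : Matrix (Fin n) (Fin n) F)
            * Pe = (g'' : Matrix (Fin t → Fin k) (Fin t → Fin k) F) := by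
          have hS : ((Cfsg.Geo.glReindex e.symm g'' : GL (Fin n) F) : Matrix (Fin n) (Fin n) F) =
              (g'' : Matrix (Fin t → Fin k) (Fin t → Fin k) F).submatrix e e := rfl
          rw [MulAut.conj_apply, Units.val_mul, Units.val_mul]
          show Matrix.submatrix _ e.symm id * _ * Matrix.submatrix _ id e.symm = _
          rw [← Matrix.submatrix_id_id ((P : Matrix (Fin n) (Fin n) F) * _ * _),
            ← Matrix.submatrix_mul _ _ _ id _ Function.bijective_id,
            ← Matrix.submatrix_mul _ _ _ id _ Function.bijective_id, hS]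
          simp only [Matrix.mul_assoc, Units.inv_mul, Matrix.mul_one]
          rw [← Matrix.mul_assoc, Units.inv_mul, Matrix.one_mul, Matrix.submatrix_submatrix]
          simp
        rw [show pure (fun _ : Fin t => W) * Pi * (((MulAut.conj P) (Cfsg.Geo.glReindex e.symm g'') :
            GL (Fin n) F) : Matrix (Fin n) (Fin n) F) * (Pe * pure (fun _ : Fin t => V)) =
          pure (fun _ : Fin t => W) * (Pi * (((MulAut.conj P) (Cfsg.Geo.glReindex e.symm g'') :
            GL (Fin n) F) : Matrix (Fin n) (Fin n) F) * Pe) * pure (fun _ : Fin t => V) by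
          simp only [Matrix.mul_assoc], hmid, hgs, Matrix.mul_assoc, Matrix.mul_assoc, perm_mul_pure,
          ← Matrix.mul_assoc (pure _) (pure _) (perm π), ← Matrix.mul_assoc, pure_mul, pure_mul]
        simp only [Matrix.mul_assoc]
      · rw [show W * (gs i : Matrix (Fin k) (Fin k) F) * V *
            (W * (((gs i)⁻¹ : GL (Fin k) F) : Matrix (Fin k) (Fin k) F) * V) =
          W * ((gs i : Matrix (Fin k) (Fin k) F) * (V * W) * (((gs i)⁻¹ : GL (Fin k) F) : Matrix (Fin k) (Fin k) F)) * V
          by simp only [Matrix.mul_assoc], hVW, Matrix.mul_one, Units.mul_inv, Matrix.mul_one, hWV]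
      · rw [show W * (((gs i)⁻¹ : GL (Fin k) F) : Matrix (Fin k) (Fin k) F) * V *
            (W * (gs i : Matrix (Fin k) (Fin k) F) * V) =
          W * ((((gs i)⁻¹ : GL (Fin k) F) : Matrix (Fin k) (Fin k) F) * (V * W) * (gs i : Matrix (Fin k) (Fin k) F)) * V
          by simp only [Matrix.mul_assoc], hVW, Matrix.mul_one, Units.inv_mul, Matrix.mul_one, hWV] }⟩⟩

end CfsgLib.Geo.SpinTensor
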